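import Cfsg.Agent.H178.RG.Defs
import Cfsg.Agent.ClassicalGeometry.WittQuad

/-!
# The Gram data determine the pair, for orthogonal groups (S5714, TEAM RG, B6)
-/

set_option autoImplicit false

namespace Cfsg.Agent.H833.RG

open Cfsg Cfsg.Agent.H178.RG
open Polynomial

section gen

variable {F ι : Type} [Field F] [Fintype ι] [DecidableEq ι]

theorem ann_ne_zero {x : Matrix ι ι F} {v : ι → F} {f : F[X]} (h : Ann x v f) : f ≠ 0 := by
  rintro rfl
  have h1 : (aeval x x.charpoly).mulVec v = 0 := by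
    rw [Matrix.aeval_self_charpoly, Matrix.zero_mulVec]
  exact x.charpoly_monic.ne_zero (zero_dvd_iff.1 ((h _).1 h1))

theorem aeval_mulVec (x : Matrix ι ι F) (v : ι → F) (g : F[X]) {d : ℕ} (hd : g.natDegree < d) :
    (aeval x g).mulVec v = ∑ i : Fin d, g.coeff i • (x ^ (i : ℕ)).mulVec v := by
  rw [aeval_eq_sum_range' hd, Matrix.sum_mulVec, Finset.sum_range]
  simp only [Matrix.smul_mulVec]

theorem ann_linInd {x : Matrix ι ι F} {v : ι → F} {f : F[X]} (h : Ann x v f) :
    LinearIndependent F (fun i : Fin f.natDegree => (x ^ (i : ℕ)).mulVec v) := by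
  rw [Fintype.linearIndependent_iff]
  intro a ha i
  set g : F[X] := ∑ j : Fin f.natDegree, C (a j) * X ^ (j : ℕ) with hg
  have hd : g.degree < (f.natDegree : WithBot ℕ) := by
    refine lt_of_le_of_lt (degree_sum_le _ _) ?_
    rw [Finset.sup_lt_iff (WithBot.bot_lt_coe _)]
    intro j _
    exact lt_of_le_of_lt (degree_C_mul_X_pow_le _ _) (by exact_mod_cast j.2)
  have hv : (aeval x g).mulVec v = 0 := by
    rw [hg, map_sum, Matrix.sum_mulVec, ← ha]
    refine Finset.sum_congr rfl fun j _ => ?_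
    rw [map_mul, aeval_C, map_pow, aeval_X, Algebra.algebraMap_eq_smul_one, smul_mul_assoc, one_mul,
      Matrix.smul_mulVec]
  have h0 : g = 0 := by
    refine eq_zero_of_dvd_of_degree_lt ((h g).1 hv) ?_
    rwa [degree_eq_natDegree (ann_ne_zero h)]
  have hc : g.coeff i = a i := by
    rw [hg, finsetSum_coeff, Finset.sum_eq_single i]
    · rw [coeff_C_mul_X_pow, if_pos rfl]
    · intro j _ hj
      rw [coeff_C_mul_X_pow, if_neg]
      intro hij
      exact hj (Fin.ext hij.symm)
    · intro hi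
      exact absurd (Finset.mem_univ _) hi
  rw [← hc, h0, coeff_zero]

/-- the reduction of the powers -/
theorem ann_pow {x : Matrix ι ι F} {v : ι → F} {f : F[X]} (h : Ann x v f) (i : ℕ) :
    (x ^ i).mulVec v = ∑ j : Fin f.natDegree, (X ^ i % f).coeff j • (x ^ (j : ℕ)).mulVec v := by
  have hf := ann_ne_zero h
  have h1 : (x ^ i).mulVec v = (aeval x (X ^ i % f)).mulVec v := by
    have h2 : (aeval x (X ^ i : F[X])).mulVec v = (aeval x (f * (X ^ i / f) + X ^ i % f)).mulVec v := by
      rw [EuclideanDomain.div_add_mod]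
    rw [map_add, Matrix.add_mulVec, (h _).2 (dvd_mul_right _ _), zero_add, map_pow, aeval_X] at h2
    exact h2
  rw [h1]
  rcases eq_or_ne (X ^ i % f) 0 with h0 | h0
  · rw [h0, map_zero, Matrix.zero_mulVec]
    simp
  · refine aeval_mulVec x v _ ?_
    have h3 : (X ^ i % f).degree < f.degree := EuclideanDomain.mod_lt _ hf
    exact natDegree_lt_natDegree h0 h3

end gen

variable {F : Type} [Field F] [Fintype F] {ι : Type} [Fintype ι] [DecidableEq ι]

theorem witt_o (Q : QuadraticForm F (ι → F))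
    (hQ : (QuadraticMap.polarBilin Q).Nondegenerate) :
    WittP ((Units.coeHom (Matrix ι ι F)).comp (isometryGroup F Q).subtype) (fun v w => QuadraticMap.polar Q v w) Q := by
  set ρ := (Units.coeHom (Matrix ι ι F)).comp (isometryGroup F Q).subtype with hρ
  have hiso : ∀ (g : isometryGroup F Q) (u : ι → F), Q ((ρ g).mulVec u) = Q u := fun g u => g.2 u u
  have hpol : ∀ (g : isometryGroup F Q) (u w : ι → F),
      QuadraticMap.polar Q ((ρ g).mulVec u) ((ρ g).mulVec w) = QuadraticMap.polar Q u w := by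
    intro g u w
    rw [QuadraticMap.polar, QuadraticMap.polar, ← Matrix.mulVec_add, hiso, hiso, hiso]
  have hgram : ∀ (g : isometryGroup F Q) (u : ι → F) (i j : ℕ),
      QuadraticMap.polar Q ((ρ (g ^ i)).mulVec u) ((ρ (g ^ j)).mulVec u) =
        QuadraticMap.polar Q ((ρ (g ^ ((i : ℤ) - j))).mulVec u) u := by
    intro g u i j
    have h1 : g ^ i = g ^ j * g ^ ((i : ℤ) - j) := by
      rw [← zpow_natCast, ← zpow_natCast, ← zpow_add]
      congr 1
      ring
    rw [h1, map_mul, ← Matrix.mulVec_mulVec, hpol]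
  intro f x x' v v' hx hx' hv hB
  have hl := ann_linInd hx
  have hl' := ann_linInd hx'
  simp only [← map_pow] at hl hl'
  obtain ⟨g, hg, hgx⟩ := Cfsg.Agent.ClassicalGeometry.WittQuad.extend_family Q hQ f.natDegree _ _ hl hl'
    (fun i => by rw [hiso, hiso, hv]) (fun i j => by
      rw [QuadraticMap.polarBilin_apply_apply, QuadraticMap.polarBilin_apply_apply, hgram, hgram]
      exact hB _)
  have hdet : IsUnit (LinearMap.toMatrix' (g : (ι → F) →ₗ[F] (ι → F))) := by
    refine ⟨⟨LinearMap.toMatrix' (g : (ι → F) →ₗ[F] (ι → F)), LinearMap.toMatrix' (g.symm : (ι → F) →ₗ[F] (ι → F)),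
      ?_, ?_⟩, rfl⟩
    · rw [← LinearMap.toMatrix'_comp]; simp
    · rw [← LinearMap.toMatrix'_comp]; simp
  obtain ⟨M, hM⟩ := hdet
  have hMv : ∀ u, (M : Matrix ι ι F).mulVec u = g u := by
    intro u
    rw [hM, LinearMap.toMatrix'_mulVec]
    rfl
  have hMm : M ∈ isometryGroup F Q := by
    intro u _
    change Q ((M : Matrix ι ι F).mulVec u) = Q u
    rw [hMv, hg]
  refine ⟨⟨M, hMm⟩, fun i => ?_⟩
  change (M : Matrix ι ι F).mulVec _ = _
  rw [hMv, map_pow, map_pow, ann_pow hx i, ann_pow hx' i, map_sum]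
  refine Finset.sum_congr rfl fun j _ => ?_
  rw [map_smul, ← map_pow, ← map_pow, hgx]

end Cfsg.Agent.H833.RG
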